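import Groth.Agent.Lib.PicH1.Thick
import Groth.Agent.Lib.UnitsThick26.Chain

/-!
# Invertible modules on flat schemes over Artinian local rings with `H^1(O)` of the fibre zero
-/

universe u

open CategoryTheory CategoryTheory.Limits AlgebraicGeometry TopologicalSpace Opposite

set_option backward.isDefEq.respectTransparency false

noncomputable section

namespace GrothLib.PicThick26

open GrothLib.UnitsThick26

theorem pull_injective_of_H1_kernel {Z X : Scheme.{u}} (c : Z ⟶ X) [Epi (UnitsSh.comap c)]
    (h : Subsingleton (Sheaf.H.{u} (kernel (UnitsSh.comap c)) 1)) : Function.Injective (Cube.pull c) := by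
  let S : ShortComplex (CohTop.Ab X.toTopCat) :=
    ShortComplex.mk (kernel.ι (UnitsSh.comap c)) (UnitsSh.comap c) (kernel.condition _)
  have hS : S.ShortExact :=
    { exact := ShortComplex.exact_of_f_is_kernel _ (kernelIsKernel (UnitsSh.comap c))
      mono_f := inferInstanceAs (Mono (kernel.ι _))
      epi_g := inferInstanceAs (Epi (UnitsSh.comap c)) }
  refine (injective_iff_map_eq_one _).2 fun p hp => ?_
  obtain ⟨x, rfl⟩ := (PicH1.toPicHG_bijective X).2 p
  rw [← PicH1.toPicPushHG_comap] at hp
  have h' : PicH1.HGmap (UnitsSh.comap c) 1 x.toAdd = 0 :=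
    congrArg Multiplicative.toAdd (PicH1.toPicPushHG_injective c (hp.trans (map_one _).symm))
  obtain ⟨y, hy⟩ := (PicH1.HG_exact₂ hS 1 x.toAdd).1 h'
  have y0 : y = 0 := @Subsingleton.elim _ h y 0
  have hx : x = 1 := congrArg Multiplicative.ofAdd ((hy.symm.trans (congrArg _ y0)).trans (map_zero _))
  rw [hx, map_one]

theorem subsingleton_HH_structure_of_iso {Y Y' : Scheme.{u}} (e : Y ⟶ Y') [IsIso e] (n : ℕ)
    (h : Subsingleton (Coh.HH Y' (Coh.structureModule Y') n)) :
    Subsingleton (Coh.HH Y (Coh.structureModule Y) n) := by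
  haveI : (Coh.structureModule Y).IsQuasicoherent :=
    InvExt.isQuasicoherent_of_isInvertible Euler.isInvertible_structure
  obtain ⟨d⟩ := Cohom.nonempty_HH_equiv_pushforward e (Coh.structureModule Y) n
  haveI : IsIso (ClSub.unitToPush e) :=
    isIso_of_bijective_affine _ fun V _ => ((ConcreteCategory.isIso_iff_bijective (e.app V)).1 inferInstance)
  exact (d.trans (HIso ((SheafOfModules.toSheaf Y'.ringCatSheaf).mapIso (asIso (ClSub.unitToPush e))) n).symm).toEquiv.subsingleton

variable {B : Type u} [CommRing B] [IsLocalRing B] [IsArtinianRing B] {X : Scheme.{u}}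
  (g : X ⟶ Spec (CommRingCat.of B)) [Flat g]

theorem pull_imm_injective
    (hvan : Subsingleton (Coh.HH (pullback g (Spec.map (CommRingCat.ofHom (IsLocalRing.residue B))))
      (Coh.structureModule _) 1)) (J : Ideal B) (hJ : J ≤ IsLocalRing.maximalIdeal B) :
    Function.Injective (Cube.pull (imm g J)) := by
  obtain ⟨h, hepi⟩ := subsingleton_H_kernel g 1 hvan J hJ
  haveI := hepi
  exact pull_injective_of_H1_kernel _ h

end GrothLib.PicThick26
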