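import Groth.Agent.Lib.PicThick26.Trivial
import Groth.Agent.Lib.PicThick26.Artinian
import Groth.Prelude.Def_Formal2

/-!
# Injectivity of restriction to the closed fibre
-/

universe u

open CategoryTheory CategoryTheory.Limits AlgebraicGeometry TopologicalSpace Opposite

set_option backward.isDefEq.respectTransparency false

noncomputable section

namespace GrothLib.PicThick26

open GrothLib.UnitsThick26

variable {A : Type u} [CommRing A] [IsLocalRing A] [IsNoetherianRing A] {X : Scheme.{u}}
  (f : X ⟶ Spec (CommRingCat.of A))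

theorem nonempty_iso_of_thicks [IsProper f] {L : X.Modules} (hL : PicF.IsInvertible L)
    (htriv : ∀ k : ℕ, Cube.pull (imm f (IsLocalRing.maximalIdeal A ^ (k + 1))) (Cube.clsMod hL) = 1) :
    Nonempty (L ≅ Coh.structureModule X) := by
  letI : X.Over (Spec (CommRingCat.of A)) := ⟨f⟩
  obtain ⟨c, ⟨e⟩⟩ := GrothLib.Ample.exists_cocycle hL
  haveI : IsProper (X ↘ Spec (CommRingCat.of A)) := ‹IsProper f›
  have hc : Cube.Triv c := triv_of_triv_thicks c (IsLocalRing.maximalIdeal A) le_rfl fun k => by
    rw [← Cube.cls_eq_one_iff, ← Cube.pull_cls]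
    have := htriv k
    rw [Cube.clsMod_eq hL e] at this
    exact this
  exact (Cube.clsMod_eq_one_iff hL).1 ((Cube.clsMod_eq hL e).trans (Cube.cls_eq_one_iff.2 hc))

theorem pull_thick_injective [Flat f]
    (h1 : Subsingleton (Coh.HH (pullback f (Spec.map (CommRingCat.ofHom (IsLocalRing.residue A))))
      (Coh.structureModule _) 1)) (k : ℕ) (p : Cube.Pic X)
    (hp : Cube.pull (pullback.fst f (Spec.map (CommRingCat.ofHom (IsLocalRing.residue A)))) p = 1) :
    Cube.pull (imm f (IsLocalRing.maximalIdeal A ^ (k + 1))) p = 1 := by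
  let m := IsLocalRing.maximalIdeal A
  let B := A ⧸ m ^ (k + 1)
  let π : A →+* B := Ideal.Quotient.mk (m ^ (k + 1))
  haveI : Nontrivial B := Ideal.Quotient.nontrivial_iff.2
    (ne_top_of_le_ne_top (IsLocalRing.maximalIdeal.isMaximal A).ne_top (Ideal.pow_le_self k.succ_ne_zero))
  haveI : IsLocalRing B := IsLocalRing.of_surjective' π Ideal.Quotient.mk_surjective
  haveI : IsLocalHom π := IsLocalHom.of_surjective π Ideal.Quotient.mk_surjective
  haveI : IsArtinianRing B := by
    rw [isArtinianRing_iff_isNilpotent_maximalIdeal]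
    refine ⟨k + 1, ?_⟩
    rw [← IsLocalRing.eq_maximalIdeal (Ideal.IsMaximal.map_of_surjective_of_ker_le
      (f := π) (m := m) Ideal.Quotient.mk_surjective
      (by rw [Ideal.mk_ker]; exact Ideal.pow_le_self k.succ_ne_zero)), ← Ideal.map_pow]
    exact Ideal.map_quotient_self _
  let g : sub f (m ^ (k + 1)) ⟶ Spec (CommRingCat.of B) := pullback.snd _ _
  haveI : Flat g := MorphismProperty.pullback_snd _ _ inferInstance
  let σ := IsLocalRing.ResidueField.map π
  have hσb : Function.Bijective σ := ⟨σ.injective, fun y => by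
    obtain ⟨b, rfl⟩ := IsLocalRing.residue_surjective y
    obtain ⟨a, rfl⟩ := Ideal.Quotient.mk_surjective b
    exact ⟨IsLocalRing.residue A a, rfl⟩⟩
  haveI : IsIso (Spec.map (CommRingCat.ofHom σ)) := by
    haveI : IsIso (CommRingCat.ofHom σ) := (ConcreteCategory.isIso_iff_bijective _).2 hσb
    infer_instance
  have hσ : Spec.map (CommRingCat.ofHom (IsLocalRing.residue B)) ≫ Spec.map (CommRingCat.ofHom π) =
      Spec.map (CommRingCat.ofHom σ) ≫ Spec.map (CommRingCat.ofHom (IsLocalRing.residue A)) := by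
    rw [← Spec.map_comp, ← Spec.map_comp]
    rfl
  let Y := pullback g (Spec.map (CommRingCat.ofHom (IsLocalRing.residue B)))
  have H : IsPullback (pullback.fst g (Spec.map (CommRingCat.ofHom (IsLocalRing.residue B))) ≫ imm f (m ^ (k + 1)))
      (pullback.snd g (Spec.map (CommRingCat.ofHom (IsLocalRing.residue B)))) f
      (Spec.map (CommRingCat.ofHom (IsLocalRing.residue B)) ≫ Spec.map (CommRingCat.ofHom π)) :=
    (IsPullback.of_hasPullback g _).paste_horiz (isPullback_sub f _)
  rw [hσ] at H
  let e : Y ⟶ pullback f (Spec.map (CommRingCat.ofHom (IsLocalRing.residue A))) :=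
    pullback.lift (pullback.fst g _ ≫ imm f (m ^ (k + 1))) (pullback.snd g _ ≫ Spec.map (CommRingCat.ofHom σ))
      (by rw [Category.assoc (pullback.snd g _)]; exact H.w)
  have He : IsPullback e (pullback.snd g (Spec.map (CommRingCat.ofHom (IsLocalRing.residue B))))
      (pullback.snd f (Spec.map (CommRingCat.ofHom (IsLocalRing.residue A)))) (Spec.map (CommRingCat.ofHom σ)) := by
    refine IsPullback.of_right ?_ (pullback.lift_snd _ _ _) (IsPullback.of_hasPullback _ _)
    rw [show e ≫ pullback.fst _ _ = _ from pullback.lift_fst _ _ _]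
    exact H
  haveI : IsIso e := He.isIso_fst_of_isIso
  have hvan := subsingleton_HH_structure_of_iso e 1 h1
  let J := IsLocalRing.maximalIdeal B
  obtain ⟨d, hd⟩ : ∃ d : sub g J ⟶ Y, d ≫ pullback.fst g _ = imm g J := by
    refine ⟨(pullback.congrHom rfl ?_).hom, ?_⟩
    · exact congrArg (fun r => Spec.map (CommRingCat.ofHom r)) (show Ideal.Quotient.mk J = IsLocalRing.residue B from rfl)
    · simp [imm]
  refine pull_imm_injective g hvan J le_rfl ?_
  rw [map_one, ← hd, ← Cube.pull_comp d, Cube.pull_comp (pullback.fst g _) (imm f (m ^ (k + 1))),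
    show pullback.fst g _ ≫ imm f (m ^ (k + 1)) = e ≫ pullback.fst f _ from (pullback.lift_fst _ _ _).symm,
    ← Cube.pull_comp, hp, map_one, map_one]

end GrothLib.PicThick26
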