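import Groth.Agent.Lib.PicH1.Class
import Groth.Agent.Lib.PicH1.HG
import Groth.Agent.Lib.Cube.Pic
import Groth.Agent.Lib.UnitsThick26.Chain
import Groth.Agent.Lib.FormalFn.Main
import Groth.Agent.Lib.FormalFn.Sections
import Groth.Agent.Lib.FormalFun.HomComplete
import Groth.Agent.Lib.Euler.Coh
import Groth.Prelude.Def_CohB1

/-!
# An invertible module trivial on all thickenings of the closed fibre is trivial
-/

universe u

open CategoryTheory CategoryTheory.Limits AlgebraicGeometry TopologicalSpace Opposite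
open GrothLib.Ample
open GrothLib.InvExt (mres mres_smul IsGen)

set_option backward.isDefEq.respectTransparency false
set_option maxHeartbeats 1000000

noncomputable section

namespace GrothLib.PicThick26

variable {A : Type u} [CommRing A] {X : Scheme.{u}}

theorem cst_eq_psiR (f : X ⟶ Spec (CommRingCat.of A)) (V : X.Opens) (a : A) :
    Cube.cst f V a = BCCoh.psiR f V a := rfl

section Sec

variable [X.Over (Spec (CommRingCat.of A))]

local notation "f₀" => X ↘ Spec (CommRingCat.of A)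

/-- Multiples by an extended ideal are multiples by the ideal. -/
theorem smul_mem_secA {J : Ideal A} (M : X.Modules) {V : X.Opens} {d : Γ(X, V)}
    (hd : d ∈ J.map (Cube.cst f₀ V)) (s : Γ(M, V)) :
    (show BCCoh.secA f₀ M V from d • s) ∈ J • (⊤ : Submodule A (BCCoh.secA f₀ M V)) := by
  induction hd using Submodule.span_induction generalizing s with
  | mem x hx =>
    obtain ⟨a, ha, rfl⟩ := hx
    have h := Submodule.smul_mem_smul (N := (⊤ : Submodule A (BCCoh.secA f₀ M V))) ha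
      (Submodule.mem_top (x := (show BCCoh.secA f₀ M V from s)))
    exact h
  | zero =>
    rw [zero_smul]
    exact Submodule.zero_mem _
  | add x y _ _ hx hy =>
    rw [add_smul]
    exact Submodule.add_mem _ (hx s) (hy s)
  | smul r x _ hx =>
    rw [smul_eq_mul, mul_comm, mul_smul]
    exact hx _

/-- The coefficient of a multiple by the ideal lies in the extended ideal. -/
theorem coord_mem {J : Ideal A} (c : Cocycle X) {V : X.Opens} (i : c.ι) (hV : V ≤ c.D i) {s : c.sect 1 V}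
    (hs : (show BCCoh.secA f₀ (c.twist 1) V from s) ∈ J • (⊤ : Submodule A (BCCoh.secA f₀ (c.twist 1) V))) :
    res (le_inf le_rfl hV) (s.1 i) ∈ J.map (Cube.cst f₀ V) := by
  refine Submodule.smul_induction_on
    (p := fun x : BCCoh.secA f₀ (c.twist 1) V =>
      res (le_inf le_rfl hV) ((show c.sect 1 V from x).1 i) ∈ J.map (Cube.cst f₀ V)) hs ?_ ?_
  · intro a ha n _
    show res (le_inf le_rfl hV) ((Cube.cst f₀ V a • (show c.sect 1 V from n)).1 i) ∈ _
    rw [c.smul_apply, map_mul, res_res, res_self]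
    exact Ideal.mul_mem_right _ _ (Ideal.mem_map_of_mem _ ha)
  · intro x y hx hy
    show res (le_inf le_rfl hV) (((show c.sect 1 V from x) + (show c.sect 1 V from y)).1 i) ∈ _
    rw [AddSubgroup.coe_add, Pi.add_apply, map_add]
    exact Ideal.add_mem _ hx hy

variable [IsNoetherianRing A]

/-- Coefficients of local trivialisations on a thickening glue to a section of the quotient. -/
theorem exists_section (c : Cocycle X) [IsProper (f₀)] (I : Ideal A) (k : ℕ)
    (h : Cube.Triv (c.comap (UnitsThick26.imm f₀ (I ^ (k + 1))))) :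
    ∃ t : Γ(Formal.modPow I (k + 1) (c.twist 1), ⊤),
      ∀ (i : c.ι) (V : X.Opens), IsAffineOpen V → ∀ hV : V ≤ c.D i, ∃ r : Γ(X, V),
        IsUnit ((UnitsThick26.imm f₀ (I ^ (k + 1))).app V r) ∧
        mres (Formal.modPow I (k + 1) (c.twist 1)) le_top t =
          (Formal.modPowπ I (k + 1) (c.twist 1)).app V (r • c.base 1 i hV) := by
  haveI : IsLocallyNoetherian X := LocallyOfFiniteType.isLocallyNoetherian f₀
  haveI := UnitsThick26.isClosedImmersion_imm f₀ (I ^ (k + 1))
  set j := UnitsThick26.imm f₀ (I ^ (k + 1)) with hj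
  set N := Formal.modPow I (k + 1) (c.twist 1) with hN
  set π := Formal.modPowπ I (k + 1) (c.twist 1) with hπdef
  have hcoh : Coh.IsCoh (c.twist 1) := Euler.isCoh_of_isInvertible (c.isInvertible_twist 1)
  have hπ := fun {V : X.Opens} (hV : IsAffineOpen V) =>
    (FormalFn.app_isQuot hcoh (FormalSys.IsQuot.modPowπ I (k + 1) (c.twist 1)) hV)
  have hker : ∀ {V : X.Opens}, IsAffineOpen V →
      RingHom.ker (j.app V).hom = (I ^ (k + 1)).map (Cube.cst f₀ V) := fun {V} hV => by
    rw [UnitsThick26.ker_app_of_isPullback (UnitsThick26.isPullback_sub f₀ (I ^ (k + 1)))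
      Ideal.Quotient.mk_surjective hV, Ideal.mk_ker]
  obtain ⟨a, ha⟩ := h
  let κ : Type u := {p : X.Opens × c.ι // IsAffineOpen p.1 ∧ p.1 ≤ c.D p.2}
  have hWD : ∀ p : κ, j ⁻¹ᵁ p.1.1 ≤ ⊤ ⊓ (c.comap j).D p.1.2 := fun p =>
    le_inf le_top (Scheme.Hom.preimage_mono j p.2.2)
  have hau : ∀ i, IsUnit (a.1 i) := fun i => by
    have hb : (UnitsThick26.sub f₀ (I ^ (k + 1))).basicOpen (a.1 i) = ⊤ ⊓ (c.comap j).D i := by
      have e := (c.comap j).locus_inf_D a i
      rw [ha] at e
      exact e.symm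
    refine (UnitsThick26.sub f₀ (I ^ (k + 1))).toRingedSpace.isUnit_of_isUnit_germ _ (a.1 i) fun x hx => ?_
    refine ((UnitsThick26.sub f₀ (I ^ (k + 1))).toRingedSpace.mem_basicOpen (a.1 i) x hx).1 ?_
    show x ∈ (UnitsThick26.sub f₀ (I ^ (k + 1))).basicOpen (a.1 i)
    rw [hb]
    exact hx
  choose r hr using fun p : κ => j.app_surjective p.1.1 p.2.1 (res (hWD p) (a.1 p.1.2))
  have hcov : (⊤ : X.Opens) ≤ ⨆ p : κ, p.1.1 := fun x _ => by
    obtain ⟨i, hi⟩ := c.exists_mem x
    obtain ⟨W, hW, hxW, hWD'⟩ := exists_isAffineOpen_mem_and_subset (x := x) (U := c.D i) hi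
    exact Opens.mem_iSup.2 ⟨⟨(W, i), hW, hWD'⟩, hxW⟩
  -- the key congruence on an affine open in two pieces
  have key : ∀ (p q : κ) (V : X.Opens), IsAffineOpen V → ∀ (hp : V ≤ p.1.1) (hq : V ≤ q.1.1),
      π.app V (res hp (r p) • c.base 1 p.1.2 (hp.trans p.2.2)) =
        π.app V (res hq (r q) • c.base 1 q.1.2 (hq.trans q.2.2)) := by
    intro p q V hV hp hq
    have e : (c.base 1 q.1.2 (hq.trans q.2.2) : c.sect 1 V) =
        c.G p.1.2 q.1.2 (hp.trans p.2.2) (hq.trans q.2.2) • c.base 1 p.1.2 (hp.trans p.2.2) := by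
      rw [c.base_eq_smul_base 1 p.1.2 q.1.2 (hp.trans p.2.2) (hq.trans q.2.2), pow_one]
    rw [e, smul_smul, ← sub_eq_zero, ← map_sub, ← sub_smul]
    refine ((hπ hV).2 _).2 (smul_mem_secA _ ?_ _)
    rw [← hker hV, RingHom.mem_ker, map_sub, sub_eq_zero, map_mul]
    have hpV : j ⁻¹ᵁ V ≤ j ⁻¹ᵁ p.1.1 := Scheme.Hom.preimage_mono j hp
    have hqV : j ⁻¹ᵁ V ≤ j ⁻¹ᵁ q.1.1 := Scheme.Hom.preimage_mono j hq
    have es := (c.comap j).sect_spec a p.1.2 q.1.2 (hpV.trans (hWD p)) (hqV.trans (hWD q))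
    rw [pow_one] at es
    have hnat : ∀ (W : X.Opens) (hW : V ≤ W) (x : Γ(X, W)), j.app V (res hW x) =
        res (Scheme.Hom.preimage_mono j hW) (j.app W x) := fun W hW x =>
      ConcreteCategory.congr_hom (j.naturality (homOfLE hW).op) x
    refine (hnat _ hp _).trans ((congrArg (res hpV) (hr p)).trans ?_)
    rw [res_res]
    refine es.trans ?_
    rw [mul_comm]
    refine congrArg₂ (· * ·) ?_ ?_
    · refine Eq.trans ?_ (hnat _ hq _).symm
      rw [hr q, res_res]
    · rw [Cocycle.comap_G, Cocycle.G]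
      refine Eq.trans ?_ (ConcreteCategory.congr_hom
        (j.naturality (homOfLE (le_inf (hp.trans p.2.2) (hq.trans q.2.2))).op) _).symm
      rfl
  obtain ⟨t, ht⟩ := PicH1.exists_glue (Coh.toAb N) (fun p : κ => p.1.1) (U := ⊤) (fun _ => le_top) hcov
    (fun p => π.app p.1.1 (r p • c.base 1 p.1.2 p.2.2)) fun p q => by
      refine PicH1.sect_ext (Coh.toAb N) (fun V : {V : X.Opens // IsAffineOpen V ∧ V ≤ p.1.1 ⊓ q.1.1} => V.1)
        (fun V => V.2.2) (fun x hx => ?_) fun V => ?_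
      · obtain ⟨V, hV, hxV, hVU⟩ := exists_isAffineOpen_mem_and_subset (x := x) (U := p.1.1 ⊓ q.1.1) hx
        exact Opens.mem_iSup.2 ⟨⟨V, hV, hVU⟩, hxV⟩
      · rw [PicH1.rs_rs, PicH1.rs_rs]
        have hloc : ∀ (p : κ) (V : X.Opens) (hp : V ≤ p.1.1),
            mres N hp (π.app p.1.1 (r p • c.base 1 p.1.2 p.2.2)) =
              π.app V (res hp (r p) • c.base 1 p.1.2 (hp.trans p.2.2)) := fun p V hp => by
          rw [← app_mres, mres_smul]
          exact congrArg (fun z => π.app V (res hp (r p) • z)) (c.sectRes_base 1 p.1.2 p.2.2 hp)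
        exact (hloc p _ (V.2.2.trans inf_le_left)).trans
          ((key p q V.1 V.2.1 _ _).trans (hloc q _ (V.2.2.trans inf_le_right)).symm)
  refine ⟨t, fun i V hV hVi => ⟨r ⟨(V, i), hV, hVi⟩, ?_, ht ⟨(V, i), hV, hVi⟩⟩⟩
  exact (congrArg IsUnit (hr ⟨(V, i), hV, hVi⟩)).mpr ((hau i).map _)

/-- An invertible module which is trivial on all thickenings of a closed fibre containing all closed
points is trivial. -/
theorem triv_of_triv_thicks [IsLocalRing A] [IsProper (f₀)] (c : Cocycle X) (I : Ideal A)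
    (hI : I ≤ IsLocalRing.maximalIdeal A)
    (h : ∀ k : ℕ, Cube.Triv (c.comap (UnitsThick26.imm f₀ (I ^ (k + 1))))) : Cube.Triv c := by
  haveI : IsLocallyNoetherian X := LocallyOfFiniteType.isLocallyNoetherian f₀
  have hcoh : Coh.IsCoh (c.twist 1) := Euler.isCoh_of_isInvertible (c.isInvertible_twist 1)
  obtain ⟨k, hk⟩ := FormalFn.mittag_leffler I (c.twist 1) hcoh 0
  obtain ⟨t, ht⟩ := exists_section c I k (h k)
  set T := (Formal.completion I (c.twist 1)).map (homOfLE (Nat.zero_le k)).op with hTdef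
  let Tab : Coh.toAb (Formal.modPow I (k + 1) (c.twist 1)) ⟶ Coh.toAb (Formal.modPow I 1 (c.twist 1)) :=
    (SheafOfModules.toSheaf X.ringCatSheaf).map T
  let πab : Coh.toAb (c.twist 1) ⟶ Coh.toAb (Formal.modPow I 1 (c.twist 1)) :=
    (SheafOfModules.toSheaf X.ringCatSheaf).map (Formal.modPowπ I 1 (c.twist 1))
  obtain ⟨z, hz⟩ : ∃ z, PicH1.HGmap πab 0 z =
      PicH1.HGmap Tab 0 ((PicH1.HG0 (Coh.toAb (Formal.modPow I (k + 1) (c.twist 1)))).symm t) :=
    (hk 0 k (Nat.zero_le k) (by rw [zero_add])).le ⟨_, rfl⟩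
  let s : c.sect 1 ⊤ := PicH1.HG0 (Coh.toAb (c.twist 1)) z
  have hs : (Formal.modPowπ I 1 (c.twist 1)).app ⊤ s = T.app ⊤ t := by
    have e := congrArg (PicH1.HG0 _) hz
    rw [PicH1.HG0_map, PicH1.HG0_map, AddEquiv.apply_symm_apply] at e
    exact e
  refine ⟨s, top_le_iff.1 fun x _ => ?_⟩
  -- the fibre over `I` lies in the locus
  have hfib : ∀ y, y ∈ Set.range (UnitsThick26.imm f₀ (I ^ (k + 1))).base → y ∈ c.locus s := by
    rintro _ ⟨y, rfl⟩
    set j := UnitsThick26.imm f₀ (I ^ (k + 1)) with hj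
    obtain ⟨i, hi⟩ := c.exists_mem (j.base y)
    obtain ⟨V, hV, hyV, hVi⟩ := exists_isAffineOpen_mem_and_subset (x := j.base y) (U := c.D i) hi
    obtain ⟨r, hr, hrt⟩ := ht i V hV hVi
    let σ : c.sect 1 V := c.sectRes le_top s - r • c.base 1 i hVi
    have hσ : (Formal.modPowπ I 1 (c.twist 1)).app V σ = 0 := by
      refine (map_sub ((Formal.modPowπ I 1 (c.twist 1)).app V).hom (c.sectRes le_top s) (r • c.base 1 i hVi)).trans
        (sub_eq_zero.2 ?_)
      refine (app_mres (Formal.modPowπ I 1 (c.twist 1)) (le_top : V ≤ ⊤) s).trans ?_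
      let T' : Formal.modPow I (k + 1) (c.twist 1) ⟶ Formal.modPow I 1 (c.twist 1) := T
      have hT : Formal.modPowπ I (k + 1) (c.twist 1) ≫ T' = Formal.modPowπ I 1 (c.twist 1) :=
        FormalSys.modPowπ_completion_map (c.twist 1) (Nat.zero_le k)
      refine (congrArg (mres (Formal.modPow I 1 (c.twist 1)) (le_top : V ≤ ⊤)) hs).trans
        ((app_mres T' (le_top : V ≤ ⊤) t).symm.trans ((congrArg (T'.app V) hrt).trans ?_))
      rw [← hT]
      rfl
    have hd := coord_mem c i hVi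
      (((FormalFn.app_isQuot hcoh (FormalSys.IsQuot.modPowπ I 1 (c.twist 1)) hV).2 σ).1 hσ)
    have hd' : res (le_inf le_top hVi) (s.1 i) - r ∈ (I ^ 1).map (Cube.cst f₀ V) := by
      refine (congrArg (· ∈ (I ^ 1).map (Cube.cst f₀ V)) ?_).mp hd
      show res _ (res _ (s.1 i) - (r • c.base 1 i hVi).1 i) = _
      rw [map_sub, res_res, c.smul_apply, c.base_self, mul_one, res_res, res_self]
    rw [pow_one] at hd'
    have hnil : IsNilpotent (j.app V (res (le_inf le_top hVi) (s.1 i) - r)) := by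
      refine ⟨k + 1, ?_⟩
      rw [← map_pow, ← RingHom.mem_ker, UnitsThick26.ker_app_of_isPullback
        (UnitsThick26.isPullback_sub f₀ (I ^ (k + 1))) Ideal.Quotient.mk_surjective hV, Ideal.mk_ker,
        Ideal.map_pow]
      exact Ideal.pow_mem_pow hd' _
    have hu : IsUnit (j.app V (res (le_inf le_top hVi) (s.1 i))) := by
      have := hnil.isUnit_add_right_of_commute hr (Commute.all _ _)
      rwa [← map_add, sub_add_cancel] at this
    refine Opens.mem_iSup.2 ⟨i, ?_⟩
    have hb : j ⁻¹ᵁ X.basicOpen (res (le_inf le_top hVi) (s.1 i)) = j ⁻¹ᵁ V := by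
      rw [Scheme.preimage_basicOpen, Scheme.basicOpen_of_isUnit _ hu]
    have hy : j.base y ∈ X.basicOpen (res (le_inf le_top hVi) (s.1 i)) := hb.ge hyV
    rw [show res (le_inf le_top hVi) (s.1 i) = X.presheaf.map (homOfLE _).op (s.1 i) from rfl,
      Scheme.basicOpen_res] at hy
    exact hy.2
  by_contra hx
  have hcl : IsClosed ((f₀).base '' (c.locus s : Set X)ᶜ) := (f₀).isClosedMap _ (c.locus s).isOpen.isClosed_compl
  have hne : (f₀).base x ∈ (f₀).base '' (c.locus s : Set X)ᶜ := ⟨x, hx, rfl⟩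
  have hclp : IsLocalRing.closedPoint A ∈ (f₀).base '' (c.locus s : Set X)ᶜ :=
    (IsLocalRing.specializes_closedPoint (R := A) ((f₀).base x)).mem_closed hcl hne
  obtain ⟨y, hy, hyf⟩ := hclp
  refine hy (hfib y ?_)
  rw [Scheme.Pullback.range_fst]
  show (f₀).base y ∈ Set.range (PrimeSpectrum.comap (Ideal.Quotient.mk (I ^ (k + 1))))
  rw [range_comap_of_surjective _ _ Ideal.Quotient.mk_surjective, Ideal.mk_ker,
    PrimeSpectrum.mem_zeroLocus, hyf]
  exact (Ideal.pow_le_self k.succ_ne_zero).trans hI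

end Sec

end GrothLib.PicThick26
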